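import Groth.Agent.Vancyc.H675.AcycPt
import Groth.Agent.S0162
import Mathlib.AlgebraicGeometry.Morphisms.Smooth

/-!
# Smooth morphisms and acyclicity at a geometric point

* `acycPt_pull_iff_smooth`: base change of `AcycPt` along a smooth morphism, torsion coefficients;
* `acycPt_of_smooth_nhd`: a locally constant sheaf killed by `N` invertible on the base is acyclic for
  `X_Ω ⟶ X` at every point of the closed fibre near which `X` is smooth over a strictly henselian base;
* `acycPt_const_of_smooth`: over an acyclic strictly henselian base.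
-/

set_option autoImplicit false
universe u
open CategoryTheory CategoryTheory.Limits AlgebraicGeometry Opposite

namespace Groth.Agent.Vancyc.H675.SmoothPt

open Groth.Agent.EtpbcA Groth.Agent.Vancyc.H675.AcycPt

/-- Base change of `AcycPt` along a smooth morphism. -/
theorem acycPt_pull_iff_smooth {X Y X' Y' : Scheme.{u}} {f : X ⟶ Y} {g : Y' ⟶ Y} {f' : X' ⟶ Y'}
    {g' : X' ⟶ X} (sq : IsPullback g' f' f g) [Smooth g] [QuasiCompact f] [QuasiSeparated f]
    (N : ℕ) (hN : IsUnit (N : Γ(Y, ⊤))) (M : EtCoh.Ab Y) (hM : EtCoh.KilledBy N M)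
    {Ω : Type u} [Field Ω] [IsSepClosed Ω] (ζ : Spec (CommRingCat.of Ω) ⟶ Y') :
    AcycPt ζ f' ((EtCoh.pull g).obj M) ↔ AcycPt (ζ ≫ g) f M := by
  have hT : EtPBC.IsTorsionInvertibleOn Y ((EtCoh.pull f).obj M) :=
    isTorsionInvertibleOn_of_killedBy Y N hN _ (Etcore.Torsion.killedBy_pull N f M hM)
  refine acycPt_pull_iff sq.w M (Groth.Agent.S0162.result g f f' g' sq _ hT 0).2 (fun q _ => ?_) ζ
  exact (Groth.Agent.S0162.result g f f' g' sq _ hT q).1

/-- A constant sheaf on a smooth scheme over an acyclic strictly henselian base. -/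
theorem acycPt_const_of_smooth {S T V Y : Scheme.{u}} (π : V ⟶ S) [Smooth π] (t : T ⟶ S)
    [QuasiCompact t] [QuasiSeparated t] (h : Y ⟶ V) (e : Y ⟶ T) (sq : IsPullback e h t π)
    (N : ℕ) (hN : IsUnit (N : Γ(S, ⊤))) (M : AddCommGrpCat.{u + 1}) (hM : ∀ m : M, N • m = 0)
    {Ω : Type u} [Field Ω] [IsSepClosed Ω] (ζ : Spec (CommRingCat.of Ω) ⟶ V)
    (H : AcycPt (ζ ≫ π) t ((constU S).obj M)) : AcycPt ζ h ((constU V).obj M) :=
  AcycPt.of_iso (pullConstU π M)
    ((acycPt_pull_iff_smooth sq N hN _ (killedBy_constU S N M hM) ζ).2 H)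

/-- Locally constant sheaves near a smooth point of the closed fibre over a strictly henselian base. -/
theorem acycPt_of_smooth_nhd (R : Type u) [CommRing R] [HenselianLocalRing R]
    [IsSepClosed (IsLocalRing.ResidueField R)] {K : Type u} [Field K] [IsSepClosed K]
    (t : Spec (CommRingCat.of K) ⟶ Spec (CommRingCat.of R))
    {X Y : Scheme.{u}} (f : X ⟶ Spec (CommRingCat.of R)) (h : Y ⟶ X) (e : Y ⟶ Spec (CommRingCat.of K))
    (hc : IsPullback e h t f) (U : X.Opens) (hU : Smooth (U.ι ≫ f)) (N : ℕ) (hN : IsUnit (N : R))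
    (F : EtCoh.Ab X) (hF : EtRest.IsLocallyConstant F) (hFN : EtCoh.KilledBy N F)
    {Ω : Type u} [Field Ω] [IsSepClosed Ω] (ξ : Spec (CommRingCat.of Ω) ⟶ X) (hξU : ξ default ∈ U)
    (hξ : f (ξ default) = IsLocalRing.closedPoint R) : AcycPt ξ h F := by
  obtain ⟨W, M, ⟨w, hw⟩, hM, ⟨φ⟩⟩ := exists_local_const F hF N hFN (ξ default)
  have hNS : IsUnit (N : Γ(Spec (CommRingCat.of R), ⊤)) := by
    have h1 := hN.map (Scheme.ΓSpecIso (CommRingCat.of R)).inv.hom
    rwa [map_natCast] at h1
  have hNX : IsUnit (N : Γ(X, ⊤)) := by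
    have h1 := hNS.map f.appTop.hom
    rwa [map_natCast] at h1
  have hWet : Etale (OverSite.str W) := W.prop
  -- the common etale neighbourhood
  let V : Scheme.{u} := pullback (OverSite.str W) U.ι
  let p : V ⟶ W.left := pullback.fst (OverSite.str W) U.ι
  let j : V ⟶ X := p ≫ OverSite.str W
  have hp : Etale p := inferInstanceAs (Etale (pullback.fst (OverSite.str W) U.ι))
  have hj : Etale j := inferInstance
  have hjf : j ≫ f = pullback.snd (OverSite.str W) U.ι ≫ U.ι ≫ f := by
    rw [← Category.assoc, ← pullback.condition]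
  have hq : Etale (pullback.snd (OverSite.str W) U.ι) := inferInstance
  have hsm : Smooth (j ≫ f) := by
    rw [hjf]
    infer_instance
  obtain ⟨v, hv1, hv2⟩ := Scheme.Pullback.exists_preimage_pullback (f := OverSite.str W) (g := U.ι) w
    (⟨ξ default, hξU⟩ : U) hw
  have hjv : j v = ξ default := by
    change (OverSite.str W) (p v) = _
    rw [show p v = w from hv1]
    exact hw
  obtain ⟨Ω', _, _, ζ, hζ⟩ := Germ.exists_geomPt_aux _ v
  have hζj : (ζ ≫ j) default = ξ default := by
    rw [Scheme.Hom.comp_apply, hζ, hjv]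
  refine AcycPt.of_point hζj ?_
  -- first reduction: etale localisation
  let YV : Scheme.{u} := pullback j h
  have sq1 : IsPullback (pullback.snd j h) (pullback.fst j h) h j := (IsPullback.of_hasPullback j h).flip
  have hqc : QuasiCompact h := MorphismProperty.of_isPullback hc.flip.flip (inferInstanceAs (QuasiCompact t))
  have hqs : QuasiSeparated h := MorphismProperty.of_isPullback hc.flip.flip (inferInstanceAs (QuasiSeparated t))
  refine (acycPt_pull_iff_smooth sq1 N hNX F hFN ζ).1 ?_
  let e1 : (constU V).obj M ≅ (EtCoh.pull j).obj F :=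
    (pullConstU p M).symm ≪≫ (EtCoh.pull p).mapIso φ.symm ≪≫
      ((EtCore.pullComp p (OverSite.str W)).app F).symm
  refine AcycPt.of_iso e1 ?_
  -- second reduction: the base
  have sq2 : IsPullback (pullback.snd j h ≫ e) (pullback.fst j h) t (j ≫ f) :=
    sq1.flip.paste_vert hc.flip |>.flip
  refine acycPt_const_of_smooth (j ≫ f) t (pullback.fst j h) (pullback.snd j h ≫ e) sq2 N hNS M hM ζ ?_
  refine acycPt_const_point R t M (ζ ≫ j ≫ f) ?_
  have h3 : (ζ ≫ j ≫ f) default = f ((ζ ≫ j) default) := by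
    rw [← Category.assoc, Scheme.Hom.comp_apply]
  rw [h3, hζj, hξ]

/-- The image of `Spec k ⟶ Spec R` is the closed point. -/
theorem toSk_apply (R : Type u) [CommRing R] [IsLocalRing R]
    (y : Spec (CommRingCat.of (IsLocalRing.ResidueField R))) :
    (Spec.map (CommRingCat.ofHom (IsLocalRing.residue R))) y = IsLocalRing.closedPoint R := by
  have hy : y = IsLocalRing.closedPoint (IsLocalRing.ResidueField R) :=
    Subsingleton.elim (α := PrimeSpectrum (IsLocalRing.ResidueField R)) _ _
  rw [hy]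
  exact IsLocalRing.comap_closedPoint (IsLocalRing.residue R)

end Groth.Agent.Vancyc.H675.SmoothPt
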