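import Groth.Agent.EtpbcA.LAUnit
import Groth.Agent.EtpbcA.OverSite2
import Groth.Agent.EtpbcB.GeomPointIndep
import Groth.Agent.Etbase.StalkPull
import Groth.Agent.Etbase.OverStalk
import Groth.Agent.Etcore.NormalAcyclic
import Groth.Agent.Etcore.Torsion
import Groth.Agent.EtpbcB.TorsionBasic
import Groth.Agent.Etrest.HpullConst
import Groth.Agent.Etrest.LCConst
import Groth.Agent.S0101

/-!
# Acyclicity of a morphism at a geometric point

`AcycPt ξ f M` (`ξ` a geometric point of `S`, `f : X ⟶ S`, `M` an abelian sheaf on `S`): the stalk at `ξ` of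
`M ⟶ f_* f^* M` is an isomorphism and the stalks at `ξ` of `R^q f_* (f^* M)`, `q > 0`, vanish.

* `AcycPt.of_iso`, `AcycPt.of_point` (depends only on the image point), `acycPt_pull_iff` (base change);
* `isIso_stalk_unit_const`: the unit on a constant sheaf at the closed point of a strictly henselian base;
* `acycPt_const_point`: constant sheaves, `Spec Ω ⟶ Spec R`, `R` strictly henselian.
* `exists_local_const`: etale local form of "locally constant, killed by `N`".
-/

set_option autoImplicit false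
set_option linter.dupNamespace false
universe u
open CategoryTheory CategoryTheory.Limits AlgebraicGeometry Opposite

namespace Groth.Agent.Vancyc.H675.AcycPt

open Groth.Agent.EtpbcA.LA Groth.Agent.EtpbcA

section defs

variable {S X : Scheme.{u}} {Ω : Type u} [Field Ω] [IsSepClosed Ω]

/-- `M → R f_* f^* M` is an isomorphism on stalks at the geometric point `ξ`. -/
def AcycPt (ξ : Spec (CommRingCat.of Ω) ⟶ S) (f : X ⟶ S) (M : EtCoh.Ab S) : Prop :=
  IsIso ((EtCoh.stalk ξ).map ((EtCoh.pullPushAdj f).unit.app M)) ∧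
    ∀ q : ℕ, 0 < q → IsZero ((EtCoh.stalk ξ).obj ((EtCoh.Rpush f q).obj ((EtCoh.pull f).obj M)))

theorem AcycPt.of_iso {ξ : Spec (CommRingCat.of Ω) ⟶ S} {f : X ⟶ S} {M N : EtCoh.Ab S} (e : M ≅ N)
    (h : AcycPt ξ f M) : AcycPt ξ f N := by
  refine ⟨?_, fun q hq => (h.2 q hq).of_iso ((EtCoh.stalk ξ).mapIso ((EtCoh.Rpush f q).mapIso
    ((EtCoh.pull f).mapIso e.symm)))⟩
  have := h.1
  have e1 : (EtCoh.pullPushAdj f).unit.app N =
      e.inv ≫ (EtCoh.pullPushAdj f).unit.app M ≫ (EtCoh.push f).map ((EtCoh.pull f).map e.hom) := by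
    have := (EtCoh.pullPushAdj f).unit.naturality e.hom
    simp only [Functor.id_map, Functor.comp_map] at this
    rw [← this, e.inv_hom_id_assoc]
  rw [e1, Functor.map_comp, Functor.map_comp]
  infer_instance

theorem AcycPt.of_point {Ω' : Type u} [Field Ω'] [IsSepClosed Ω'] {ξ : Spec (CommRingCat.of Ω) ⟶ S}
    {ξ' : Spec (CommRingCat.of Ω') ⟶ S} (hp : ξ default = ξ' default) {f : X ⟶ S} {M : EtCoh.Ab S}
    (h : AcycPt ξ f M) : AcycPt ξ' f M := by
  obtain ⟨e⟩ := EtpbcB.GeomPointIndep.nonempty_stalkIso ξ ξ' hp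
  exact ⟨(NatIso.isIso_map_iff e _).1 h.1, fun q hq => (h.2 q hq).of_iso (e.app _).symm⟩

end defs

section bc

variable {X Y X' Y' : Scheme.{u}} {f : X ⟶ Y} {g : Y' ⟶ Y} {f' : X' ⟶ Y'} {g' : X' ⟶ X}
  {Ω : Type u} [Field Ω] [IsSepClosed Ω]

theorem isIso_stalk_unit_iff (w : g' ≫ f = f' ≫ g) (M : EtCoh.Ab Y)
    (h0 : IsIso (EtCoh.baseChange0 f g f' g' w ((EtCoh.pull f).obj M)))
    (ζ : Spec (CommRingCat.of Ω) ⟶ Y') :
    IsIso ((EtCoh.stalk ζ).map ((EtCoh.pullPushAdj f').unit.app ((EtCoh.pull g).obj M))) ↔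
      IsIso ((EtCoh.stalk (ζ ≫ g)).map ((EtCoh.pullPushAdj f).unit.app M)) := by
  have h1 := pull_unit_baseChange0 (f := f) (g := g) (f' := f') (g' := g') w M
  have h2 := congrArg (fun ψ => (EtCoh.stalk ζ).map ψ) h1
  simp only [Functor.map_comp] at h2
  have h3 : IsIso ((EtCoh.stalk (ζ ≫ g)).map ((EtCoh.pullPushAdj f).unit.app M)) ↔
      IsIso ((EtCoh.stalk ζ).map ((EtCoh.pull g).map ((EtCoh.pullPushAdj f).unit.app M))) :=
    NatIso.isIso_map_iff (Etbase.StalkPull.stalkPullIso g ζ) _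
  rw [h3]
  constructor
  · intro h
    have h4 : IsIso ((EtCoh.stalk ζ).map ((EtCoh.pull g).map ((EtCoh.pullPushAdj f).unit.app M)) ≫
        (EtCoh.stalk ζ).map (EtCoh.baseChange0 f g f' g' w ((EtCoh.pull f).obj M))) := by
      rw [h2]
      infer_instance
    exact IsIso.of_isIso_comp_right _
      ((EtCoh.stalk ζ).map (EtCoh.baseChange0 f g f' g' w ((EtCoh.pull f).obj M)))
  · intro h
    have h4 : IsIso ((EtCoh.stalk ζ).map ((EtCoh.pullPushAdj f').unit.app ((EtCoh.pull g).obj M)) ≫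
        (EtCoh.stalk ζ).map ((EtCoh.push f').map ((kap w).hom.app M))) := by
      rw [← h2]
      infer_instance
    exact IsIso.of_isIso_comp_right _ ((EtCoh.stalk ζ).map ((EtCoh.push f').map ((kap w).hom.app M)))

/-- Acyclicity at a geometric point and base change. -/
theorem acycPt_pull_iff (w : g' ≫ f = f' ≫ g) (M : EtCoh.Ab Y)
    (h0 : IsIso (EtCoh.baseChange0 f g f' g' w ((EtCoh.pull f).obj M)))
    (h1 : ∀ q, 0 < q → Nonempty ((EtCoh.pull g).obj ((EtCoh.Rpush f q).obj ((EtCoh.pull f).obj M)) ≅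
      (EtCoh.Rpush f' q).obj ((EtCoh.pull g').obj ((EtCoh.pull f).obj M))))
    (ζ : Spec (CommRingCat.of Ω) ⟶ Y') :
    AcycPt ζ f' ((EtCoh.pull g).obj M) ↔ AcycPt (ζ ≫ g) f M := by
  refine and_congr (isIso_stalk_unit_iff w M h0 ζ) (forall_congr' fun q => forall_congr' fun hq => ?_)
  obtain ⟨i⟩ := h1 q hq
  let e : (EtCoh.stalk ζ).obj ((EtCoh.Rpush f' q).obj ((EtCoh.pull f').obj ((EtCoh.pull g).obj M))) ≅
      (EtCoh.stalk (ζ ≫ g)).obj ((EtCoh.Rpush f q).obj ((EtCoh.pull f).obj M)) :=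
    (EtCoh.stalk ζ).mapIso ((EtCoh.Rpush f' q).mapIso ((kap w).app M) ≪≫ i.symm) ≪≫
      ((Etbase.StalkPull.stalkPullIso g ζ).app _).symm
  exact ⟨fun h => h.of_iso e.symm, fun h => h.of_iso e⟩

end bc

section const

/-- The constant sheaf with arbitrary value. -/
noncomputable abbrev constU (X : Scheme.{u}) : AddCommGrpCat.{u + 1} ⥤ EtCoh.Ab X :=
  constantSheaf X.smallEtaleTopology AddCommGrpCat.{u + 1}

variable (R : Type u) [CommRing R] [HenselianLocalRing R] [IsSepClosed (IsLocalRing.ResidueField R)]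
  {T : Scheme.{u}} (t : T ⟶ Spec (CommRingCat.of R))

theorem preconnectedSpace_spec (A : Type u) [CommRing A] [IsLocalRing A] :
    PreconnectedSpace (Spec (CommRingCat.of A)) := by
  constructor
  refine isPreconnected_of_forall (IsLocalRing.closedPoint A : PrimeSpectrum A) fun y _ => ?_
  refine ⟨closure {y}, Set.subset_univ _, ?_, subset_closure rfl, isPreconnected_singleton.closure⟩
  exact (IsLocalRing.specializes_closedPoint (y : PrimeSpectrum A)).mem_closure

theorem isIso_unit_top (X : Scheme.{u}) [PreconnectedSpace X] [Nonempty X] (M : AddCommGrpCat.{u + 1}) :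
    IsIso ((constantSheafAdj X.smallEtaleTopology AddCommGrpCat.{u + 1}
      (EtCore.topIsTerminal X)).unit.app M) :=
  (Etrest.HpullConst.isIso_unit_iff X M (EtCore.topIsTerminal X)).2
    (Etrest.HpullConst.bijective_const (T := X) M)

/-- Global sections of a constant sheaf and pullback between connected schemes. -/
theorem bijective_Hpull_zero {X Y : Scheme.{u}} (f : X ⟶ Y) [PreservesFiniteLimits (EtCoh.pull f)]
    [PreconnectedSpace X] [Nonempty X] [PreconnectedSpace Y] [Nonempty Y] (M : AddCommGrpCat.{u + 1}) :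
    Function.Bijective (EtCore.Hpull f ((constU Y).obj M) 0) :=
  Etrest.HpullConst.bijective_Hpull_zero_const f M
    (Etrest.HpullConst.constU_map_bijective X _ _ (EtCore.topIsTerminal X) (isIso_unit_top X M))
    (Etrest.HpullConst.constU_map_bijective Y _ _ (EtCore.topIsTerminal Y) (isIso_unit_top Y M))

/-- The unit of a constant sheaf at the closed point of a strictly henselian local scheme, along a morphism
with connected source. -/
theorem isIso_stalk_unit_const [PreconnectedSpace T] [Nonempty T] (M : AddCommGrpCat.{u + 1})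
    {Ω : Type u} [Field Ω] [IsSepClosed Ω] (p : Spec (CommRingCat.of Ω) ⟶ Spec (CommRingCat.of R))
    (hp : p default = IsLocalRing.closedPoint R) :
    IsIso ((EtCoh.stalk p).map ((EtCoh.pullPushAdj t).unit.app ((constU _).obj M))) := by
  have hlim : PreservesFiniteLimits (EtCoh.pull t) := Groth.Agent.S0101.result t
  have hconn := preconnectedSpace_spec R
  rw [ConcreteCategory.isIso_iff_bijective]
  exact (bijAt_top_iff_stalk p hp _).1 ((bijective_Hpull_zero_iff t _).1 (bijective_Hpull_zero t M))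

/-- Constant sheaves are acyclic for a geometric point of a strictly henselian local scheme, at the closed
point. -/
theorem acycPt_const_point {K : Type u} [Field K] [IsSepClosed K]
    (t : Spec (CommRingCat.of K) ⟶ Spec (CommRingCat.of R)) (M : AddCommGrpCat.{u + 1})
    {Ω : Type u} [Field Ω] [IsSepClosed Ω] (p : Spec (CommRingCat.of Ω) ⟶ Spec (CommRingCat.of R))
    (hp : p default = IsLocalRing.closedPoint R) :
    AcycPt p t ((constU _).obj M) :=
  ⟨isIso_stalk_unit_const R t M p hp, fun q hq => (EtCoh.stalk p).map_isZero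
    (Etcore.NormalAcyclic.isZero_Rpush_point t _ q hq)⟩

/-- The pullback of a constant sheaf is constant. -/
noncomputable def pullConstU {X Y : Scheme.{u}} (f : X ⟶ Y) (M : AddCommGrpCat.{u + 1}) :
    (EtCoh.pull f).obj ((constU Y).obj M) ≅ (constU X).obj M :=
  (EtCore.pullConstIso f).app M

theorem killedBy_constU (X : Scheme.{u}) (N : ℕ) (M : AddCommGrpCat.{u + 1}) (hM : ∀ m : M, N • m = 0) :
    EtCoh.KilledBy N ((constU X).obj M) := by
  rw [EtpbcB.TorsionBasic.killedBy_iff]
  have h0 : N • (𝟙 M) = 0 := by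
    ext m
    exact hM m
  have h1 := congrArg (fun ψ => (constU X).map ψ) h0
  simp only [Functor.map_zero] at h1
  rw [← h1]
  have : (constU X).Additive := inferInstance
  rw [Functor.map_nsmul, CategoryTheory.Functor.map_id]

theorem isTorsionInvertibleOn_of_killedBy (S : Scheme.{u}) {T : Scheme.{u}} (N : ℕ)
    (hN : IsUnit (N : Γ(S, ⊤))) (F : EtCoh.Ab T) (hF : EtCoh.KilledBy N F) :
    EtPBC.IsTorsionInvertibleOn S F := fun U _ x => ⟨U, 𝟙 U, N, ⟨x, rfl⟩, hN, hF U _⟩

end const

/-- A locally constant sheaf killed by `N` is, near every point, constant with value killed by `N`. -/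
theorem exists_local_const {X : Scheme.{u}} (F : EtCoh.Ab X) (hF : EtRest.IsLocallyConstant F) (N : ℕ)
    (hN : EtCoh.KilledBy N F) (x : X) :
    ∃ (U : X.Etale) (M : AddCommGrpCat.{u + 1}), (∃ u : U.left, U.hom.base u = x) ∧ (∀ m : M, N • m = 0) ∧
      Nonempty ((EtCoh.pull (OverSite.str U)).obj F ≅ (constU U.left).obj M) := by
  obtain ⟨ι, U, hU, hM⟩ := hF
  obtain ⟨i, y, hy⟩ := hU x
  obtain ⟨M, _, e0⟩ := hM i
  obtain ⟨e⟩ := (OverSite2.restr_iso_const_iff (U i) F (AddCommGrpCat.of M)).1 e0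
  refine ⟨U i, AddCommGrpCat.of M, ⟨y, hy⟩, ?_, ⟨e⟩⟩
  have hk : EtCoh.KilledBy N ((EtCoh.pull (OverSite.str (U i))).obj F) :=
    Groth.Agent.Etcore.Torsion.killedBy_pull N _ F hN
  have hk2 : EtCoh.KilledBy N ((constU (U i).left).obj (AddCommGrpCat.of M)) := by
    rw [EtpbcB.TorsionBasic.killedBy_iff] at hk ⊢
    have h1 : N • (e.inv ≫ 𝟙 _ ≫ e.hom) = 0 := by
      rw [← Preadditive.comp_nsmul, ← Preadditive.nsmul_comp, hk, zero_comp, comp_zero]
    rwa [Category.id_comp, e.inv_hom_id] at h1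
  intro m
  obtain ⟨Ω, _, _, ζ, -⟩ := Germ.exists_geomPt_aux _ y
  let e2 := Groth.Agent.Etbase.OverStalk.sheafFiberConstantSheafIso (Scheme.pointSmallEtale ζ)
    (AddCommGrpCat.of M)
  have h1 := (Groth.Agent.Etcore.Torsion.killedBy_iff_stalk N _).1 hk2 _ ζ (e2.inv m)
  have h2 : e2.hom (e2.inv m) = m := by
    have := congrArg (fun ψ => ψ m) (congrArg AddCommGrpCat.Hom.hom e2.inv_hom_id)
    exact this
  have h4 := congrArg (fun t => e2.hom t) h1
  simp only [map_nsmul, map_zero] at h4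
  rwa [h2] at h4

end Groth.Agent.Vancyc.H675.AcycPt
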